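import Cfsg.Agent.Lib.U34Recog67.Reduced

/-!
# Automorphisms of odd order of a Sylow 2-subgroup of `U3(4)` fixing the centre

helper67.  They act on the quotient by the centre as multiplication by fifth roots of unity.
-/

set_option autoImplicit false
set_option linter.style.haveILetI false

open Subgroup

namespace Cfsg.Agent.Lib.U34Recog67

universe v w

variable {F : Type w} [Field F] [Fintype F] {S : Type v} [Group S]

theorem exists_root (hF : Fintype.card F = (2 ^ 2) ^ 2) (c : U3Sylow.Coords F (2 ^ 2) S)
    (α : MulAut S) {m : ℕ} (hm : Odd m) (hpow : α ^ m = 1)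
    (hfix : ∀ s, c.a s = 0 → α s = s) :
    ∃ l : F, l ^ 5 = 1 ∧ ∀ s, c.a (α s) = l * c.a s := by
  classical
  have h16 : ∀ x : F, x ^ 16 = x := fun x => by
    have h := FiniteField.pow_card x
    rwa [hF] at h
  obtain ⟨l, i, hi, hα⟩ := c.classify hF α
  have hcen : ∀ y : F, y ^ 4 = y → (l : F) * (l : F) ^ 4 * y ^ 2 ^ i = y := by
    intro y hy
    obtain ⟨s, hs, hb⟩ := c.exists_central hF (y := y) (by simpa using hy)
    have h := (hα s).2 hs
    rw [hfix s hs, hb] at h
    simpa using h.symm
  have hN : (l : F) * (l : F) ^ 4 = 1 := by simpa using hcen 1 (one_pow 4)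
  have hl5 : (l : F) ^ 5 = 1 := by rw [pow_succ']; exact hN
  have hfrob : ∀ y : F, y ^ 4 = y → y ^ 2 ^ i = y := fun y hy => by
    simpa [hN] using hcen y hy
  -- an element of the field with four elements outside the prime field
  obtain ⟨y, hy4, hy2⟩ : ∃ y : F, y ^ 4 = y ∧ y * y ≠ y := by
    by_contra! hcon
    have h4 := U3Sylow.card_traceZero (n := 2) hF
    have hle : Nat.card (U3Sylow.traceZero (n := 2) hF) ≤ Nat.card ({0, 1} : Finset F) := by
      refine Nat.card_le_card_of_injective (fun x => ⟨(x : F), ?_⟩) fun a b h =>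
        Subtype.ext (congrArg (fun z => (z.1 : F)) h)
      have hx : (x : F) ^ 2 ^ 2 = x :=
        (U3Sylow.trace_zero_iff hF).1 ((U3Sylow.mem_traceZero hF).1 x.2)
      have h2 := hcon (x : F) (by simpa using hx)
      rcases mul_eq_zero.1 (show (x : F) * ((x : F) - 1) = 0 by linear_combination h2) with h | h
      · simp [h]
      · simp [sub_eq_zero.1 h]
    rw [h4, Nat.card_eq_fintype_card, Fintype.card_coe] at hle
    have := Finset.card_le_two (a := (0 : F)) (b := 1)
    omega
  have hi' : i = 0 ∨ i = 2 := by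
    have h := hfrob y hy4
    rcases (by omega : i = 0 ∨ i = 1 ∨ i = 2 ∨ i = 3) with rfl | rfl | rfl | rfl
    · exact Or.inl rfl
    · exact absurd (by rw [← sq]; simpa using h) hy2
    · exact Or.inr rfl
    · refine absurd ?_ hy2
      have h8 : y ^ 8 = y * y := by
        rw [show (8 : ℕ) = 4 * 2 from rfl, pow_mul, hy4, sq]
      rw [← h8]
      simpa using h
  rcases hi' with rfl | rfl
  · exact ⟨l, hl5, fun s => by simpa using (hα s).1⟩
  · refine ⟨1, one_pow _, fun s => ?_⟩
    have hsq : ∀ s, c.a (α (α s)) = c.a s := by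
      intro s
      rw [(hα (α s)).1, (hα s).1, mul_pow, ← pow_mul, ← mul_assoc]
      norm_num [hN, h16]
    have hev : ∀ k, ∀ s, c.a ((α ^ (2 * k)) s) = c.a s := by
      intro k
      induction k with
      | zero => intro s; simp
      | succ k ih =>
        intro s
        rw [show 2 * (k + 1) = 2 * k + (1 + 1) by ring, pow_add, MulAut.mul_apply, ih, pow_succ,
          pow_one, MulAut.mul_apply, hsq]
    obtain ⟨k, rfl⟩ := hm
    have h := hev k (α s)
    rw [← MulAut.mul_apply, ← pow_succ, hpow, MulAut.one_apply] at h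
    rw [one_mul]
    exact h.symm

end Cfsg.Agent.Lib.U34Recog67
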