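import Cfsg.Agent.Lib.Goldschmidt53.FactsCover
import Cfsg.Agent.Lib.Goldschmidt92.Main
import Cfsg.Agent.Lib.LatticeUnitary.Transport
import Cfsg.Agent.Lib.Walter.Assemble
import Cfsg.Agent.Lib.PGroups.Omega
import Cfsg.Agent.Lib.PGroups.ElemAb

/-!
# Simple groups whose Sylow 2-subgroups are those of `U3(4)`

helper67.  `Ω₁(S) = Z(S)` contains every involution of `S`, so it is an abelian strongly closed
four-group and Goldschmidt's theorem applies.
-/

set_option autoImplicit false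
set_option linter.style.haveILetI false

open Subgroup

namespace Cfsg.Agent.Lib.U34Recog67

open Goldschmidt53 (PropSimple Om)
open Goldschmidt53.FactsCover (omega_coords card_sz)

universe u v w

theorem sylow_comm_transfer {G : Type u} [Group G] [Finite G] (S : Sylow 2 G) {H : Type v} [Group H]
    [Finite H] (e : G ≃* H) (h : ∀ P : Sylow 2 H, ∀ x ∈ (P : Subgroup H), ∀ y ∈ (P : Subgroup H),
      x * y = y * x) (x : G) (hx : x ∈ (S : Subgroup G)) (y : G) (hy : y ∈ (S : Subgroup G)) :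
    x * y = y * x := by
  haveI : Fact (Nat.Prime 2) := ⟨Nat.prime_two⟩
  refine e.injective ?_
  rw [map_mul, map_mul]
  exact h (S.mapSurjective (f := e.toMonoidHom) e.surjective) _ ⟨x, hx, rfl⟩ _ ⟨y, hy, rfl⟩

/-- The statement of S0486. -/
theorem row0486 (hP : PropSimple.{u}) {G : Type u} [Group G] [Finite G] [IsSimpleGroup G]
    {F : Type w} [Field F] [Fintype F] (hF : Fintype.card F = 16) (S : Sylow 2 G)
    (P : Sylow 2 (Cfsg.PSU 3 F 4))
    (hS : Nonempty ((S : Subgroup G) ≃* (P : Subgroup (Cfsg.PSU 3 F 4)))) :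
    Nonempty (G ≃* Cfsg.PSU 3 F 4) := by
  haveI : Fact (Nat.Prime 2) := ⟨Nat.prime_two⟩
  have hF2 : Fintype.card F = (2 ^ 2) ^ 2 := by rw [hF]; norm_num
  obtain ⟨φ⟩ := hS
  obtain ⟨c₀⟩ : Nonempty (U3Sylow.Coords F (2 ^ 2) ↥(P : Subgroup (Cfsg.PSU 3 F 4))) :=
    U3Sylow.exists_coords_PSU (n := 2) hF2 P
  let c := c₀.trans φ
  have hcard : Nat.card ↥(S : Subgroup G) = 64 := by rw [c.card_eq hF2]; norm_num
  have hcen : Om S = (Subgroup.center ↥(S : Subgroup G)).map (S : Subgroup G).subtype := by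
    ext x
    constructor
    · intro hx
      have hxS : x ∈ (S : Subgroup G) := PGroups.omegaOne_le 2 _ hx
      exact ⟨⟨x, hxS⟩, (c.mem_center_iff hF2).2 ((omega_coords hF2 S c ⟨x, hxS⟩).1 hx), rfl⟩
    · rintro ⟨z, hz, rfl⟩
      exact (omega_coords hF2 S c z).2 ((c.mem_center_iff hF2).1 hz)
  have hom : Nat.card ↥(Om S) = 4 := by
    rw [hcen, card_map_of_injective (Subgroup.subtype_injective _), c.card_center hF2]
    norm_num
  have hna : ∀ h : ∀ x ∈ (S : Subgroup G), ∀ y ∈ (S : Subgroup G), x * y = y * x, False := by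
    intro h
    have htop : Subgroup.center ↥(S : Subgroup G) = ⊤ := eq_top_iff.2 fun z _ =>
      Subgroup.mem_center_iff.2 fun g => Subtype.ext (h g g.2 z z.2)
    have := c.card_center hF2
    rw [htop, Subgroup.card_top, hcard] at this
    norm_num at this
  have hG : ¬ IsMulCommutative G := fun h => hna fun x _ y _ => h.1.1 x y
  have hel : Cfsg.IsElementaryAbelian 2 (Om S) := by
    have hmem : ∀ a ∈ Om S, ∀ y ∈ (S : Subgroup G), a * y = y * a := by
      intro a ha y hy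
      rw [hcen] at ha
      obtain ⟨z, hz, rfl⟩ := ha
      exact (congrArg Subtype.val (Subgroup.mem_center_iff.1 hz ⟨y, hy⟩)).symm
    refine ⟨⟨⟨fun a b => Subtype.ext (hmem a a.2 b (PGroups.omegaOne_le 2 _ b.2))⟩⟩, fun a ha => ?_⟩
    have haS : a ∈ (S : Subgroup G) := PGroups.omegaOne_le 2 _ ha
    rw [sq]
    exact congrArg Subtype.val
      ((c.sq_eq_one_iff hF2 (s := ⟨a, haS⟩)).2 ((omega_coords hF2 S c ⟨a, haS⟩).1 ha))
  have hsc : Cfsg.IsStronglyClosed (Om S) (S : Subgroup G) :=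
    ⟨PGroups.omegaOne_le 2 _, fun x hx g hg => PGroups.mem_omegaOne_of_pow hg
      (by rw [conj_pow, hel.2 x hx, mul_one, mul_inv_cancel])⟩
  have hne : Om S ≠ ⊥ := fun h => by rw [h, card_bot] at hom; omega
  rcases (hP _ G (Nat.lt_succ_self _) inferInstance hG S (Om S) hne hel hsc).1 with
    (⟨n, K, iK, jK, hn, hK, ⟨e⟩⟩ | ⟨K, iK, jK, hq, -, ⟨e⟩⟩ | hJ) |
      (⟨K, iK, jK, m, hm, hK, ⟨e⟩⟩ | ⟨K, iK, jK, n, hn, hK, ⟨e⟩⟩)
  · obtain ⟨Q, hQ⟩ := Goldschmidt92.abelian_sylow_PSL_even (F := K) hK (by omega)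
    refine (hna (sylow_comm_transfer S e fun R x hx y hy => ?_)).elim
    haveI := hQ
    exact congrArg Subtype.val ((Sylow.equiv R Q).injective
      (show Sylow.equiv R Q (⟨x, hx⟩ * ⟨y, hy⟩) = Sylow.equiv R Q (⟨y, hy⟩ * ⟨x, hx⟩) by
        rw [map_mul, map_mul, mul_comm']))
  · obtain ⟨Q, hQ⟩ := Goldschmidt92.abelian_sylow (G := Matrix.ProjectiveSpecialLinearGroup (Fin 2) K)
      (Goldschmidt92.not_eight_dvd_card (F := K) hq)
    refine (hna (sylow_comm_transfer S e fun R x hx y hy => ?_)).elim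
    haveI := hQ
    exact congrArg Subtype.val ((Sylow.equiv R Q).injective
      (show Sylow.equiv R Q (⟨x, hx⟩ * ⟨y, hy⟩) = Sylow.equiv R Q (⟨y, hy⟩ * ⟨x, hx⟩) by
        rw [map_mul, map_mul, mul_comm']))
  · refine (hna fun x hx y hy => ?_).elim
    haveI := (hJ.elementary S).1
    exact setLike_mul_comm (s := (S : Subgroup G)) hx hy
  · obtain ⟨ho, hs⟩ := card_sz hm hK e S
    rw [hcard] at hs
    rw [hom] at ho
    rw [← ho] at hs
    norm_num at hs
  · haveI : Finite (Cfsg.PSU 3 K (2 ^ n)) := Finite.of_equiv _ e.toEquiv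
    let Q : Sylow 2 (Cfsg.PSU 3 K (2 ^ n)) := S.mapSurjective (f := e.toMonoidHom) e.surjective
    obtain ⟨d⟩ := U3Sylow.exists_coords_PSU hK Q
    have h64 : (2 ^ n) ^ 3 = 64 := by
      rw [← d.card_eq hK, ← hcard]
      exact (Nat.card_congr ((S : Subgroup G).equivMapOfInjective _ e.injective).toEquiv).symm
    obtain rfl : n = 2 := by
      have h2 : 2 ^ (n * 3) = 2 ^ 6 := by rw [pow_mul, h64]; norm_num
      have := Nat.pow_right_injective le_rfl h2
      omega
    obtain ⟨i⟩ := LatticeUnitary.exists_psu_congr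
      (FiniteField.ringEquivOfCardEq (K := K) (K' := F) (by rw [hK, hF2])) 3 (2 ^ 2)
    exact ⟨e.trans i⟩

end Cfsg.Agent.Lib.U34Recog67
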