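import Cfsg.Agent.Lib.U34Recog67.Main
import Cfsg.Agent.Lib.Goldschmidt53.Facts
import Cfsg.Agent.Lib.ZStar.StronglyClosed
import Cfsg.Agent.Lib.ZStar.Elements
import Cfsg.Agent.Lib.Transfer.Fusion
import Cfsg.Agent.Lib.Walter.Fusion
import Cfsg.Agent.Lib.HalfClasses.Local

/-!
# Groups with trivial odd core whose Sylow 2-subgroups are those of `U3(4)`

helper67.  The centre `Z` of `S` is a four-group containing all involutions of `S`.  Either its
involutions are fused, then a minimal normal subgroup is simple and contains `S`; or `Z` is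
central in the group, then the quotient by `Z` has an elementary abelian Sylow 2-subgroup whose
automizer has order dividing 5, which no simple group allows.
-/

set_option autoImplicit false
set_option linter.style.haveILetI false

open Subgroup

namespace Cfsg.Agent.Lib.U34Recog67

open Goldschmidt53 (PropSimple Om)

universe u v w

variable {G : Type u} [Group G] [Finite G]

theorem no_odd_normal (hO : Cfsg.oddCore G = ⊥) (N : Subgroup G) [N.Normal]
    (h : Odd (Nat.card ↥N)) : N = ⊥ :=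
  le_bot_iff.1 (hO ▸ ZStar.Elements.le_oddCore h)

theorem exists_involution_mem (hO : Cfsg.oddCore G = ⊥) (S : Sylow 2 G) (W : Subgroup G)
    [W.Normal] (hW : W ≠ ⊥) : ∃ x ∈ W, x ∈ (S : Subgroup G) ∧ orderOf x = 2 := by
  haveI : Fact (Nat.Prime 2) := ⟨Nat.prime_two⟩
  obtain ⟨Q, hQ⟩ := Transfer.Fusion.exists_sylow_map_eq_inf W S
  by_cases h2 : 2 ∣ Nat.card ↥W
  · have h2' : 2 ∣ Nat.card ↥(Q : Subgroup ↥W) := Q.dvd_card_of_dvd_card h2
    obtain ⟨x, hx⟩ := exists_prime_orderOf_dvd_card' 2 h2'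
    have hm : ((x : ↥W) : G) ∈ W ⊓ (S : Subgroup G) := hQ ▸ ⟨x, x.2, rfl⟩
    exact ⟨_, hm.1, hm.2, by rw [Subgroup.orderOf_coe, Subgroup.orderOf_coe, hx]⟩
  · exact absurd (no_odd_normal hO W (by rwa [Nat.odd_iff, ← Nat.two_dvd_ne_zero])) hW

theorem exists_minimal_normal [Nontrivial G] :
    ∃ W : Subgroup G, W.Normal ∧ W ≠ ⊥ ∧
      ∀ L : Subgroup G, L.Normal → L ≠ ⊥ → L ≤ W → L = W := by
  classical
  have := Fintype.ofFinite G
  obtain ⟨W, hW, hmin⟩ := Finset.exists_min_image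
    (Finset.univ.filter fun N : Subgroup G => N.Normal ∧ N ≠ ⊥) (fun N => Nat.card N)
    ⟨⊤, by simp⟩
  simp only [Finset.mem_filter, Finset.mem_univ, true_and] at hW hmin
  exact ⟨W, hW.1, hW.2, fun L hLn hL hle =>
    Subgroup.eq_of_le_of_card_ge hle (hmin L ⟨hLn, hL⟩)⟩

theorem four_cases {Z : Subgroup G} (h4 : Nat.card ↥Z = 4) {a b : G} (ha : a ∈ Z) (hb : b ∈ Z)
    (ha1 : a ≠ 1) (hb1 : b ≠ 1) (hab : a ≠ b) (hsq : a * a = 1) {c : G} (hc : c ∈ Z) :
    c = 1 ∨ c = a ∨ c = b ∨ c = a * b := by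
  classical
  haveI := Fintype.ofFinite ↥Z
  by_contra hcon
  simp only [not_or] at hcon
  obtain ⟨h1, h2, h3, h5⟩ := hcon
  have hab1 : a * b ≠ 1 := fun h => hab (mul_left_cancel (hsq.trans h.symm))
  let s : Finset ↥Z := {1, ⟨a, ha⟩, ⟨b, hb⟩, ⟨a * b, mul_mem ha hb⟩, ⟨c, hc⟩}
  have h : s.card = 5 := by
    simp [s, Finset.card_insert_of_notMem, Subtype.ext_iff, Ne.symm h1, Ne.symm h2, Ne.symm h3,
      Ne.symm h5, Ne.symm ha1, Ne.symm hb1, Ne.symm hab1, hab, ha1, hb1]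
  have := Finset.card_le_univ s
  rw [h, ← Nat.card_eq_fintype_card, h4] at this
  omega

/-- A minimal normal subgroup, when the involutions of `Z` are fused by an element `n` permuting
them cyclically. -/
theorem simple_minimal (hO : Cfsg.oddCore G = ⊥)
    (hO' : ∀ N : Subgroup G, N.Normal → Odd N.index → N = ⊤) (S : Sylow 2 G) (Z : Subgroup G)
    (h4 : Nat.card ↥Z = 4) (hel : ∀ x ∈ Z, x * x = 1)
    (hcen : ∀ x ∈ Z, ∀ y ∈ (S : Subgroup G), x * y = y * x)
    (hinv : ∀ x ∈ (S : Subgroup G), x * x = 1 → x ∈ Z) {n : G}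
    (hnZ : ∀ x ∈ Z, n * x * n⁻¹ ∈ Z)
    (hcyc : ∀ x ∈ Z, x ≠ 1 → n * x * n⁻¹ ≠ x ∧
      n * (n * x * n⁻¹) * n⁻¹ = x * (n * x * n⁻¹)) :
    ∃ W : Subgroup G, W.Normal ∧ IsSimpleGroup ↥W ∧ ¬ IsMulCommutative ↥W ∧ Z ≤ W ∧
      Subgroup.centralizer (W : Set G) = ⊥ := by
  classical
  haveI : Fact (Nat.Prime 2) := ⟨Nat.prime_two⟩
  obtain ⟨z₀, hz₀, hz₀1⟩ := Z.bot_or_exists_ne_one.resolve_left
    (fun h => by rw [h, Subgroup.card_bot] at h4; omega)
  have hZle : ∀ L : Subgroup G, (∀ x ∈ L, n * x * n⁻¹ ∈ L) → ∀ x ∈ Z, x ≠ 1 → x ∈ L →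
      Z ≤ L := by
    intro L hL x hx hx1 hxL c hc
    obtain ⟨hne, -⟩ := hcyc x hx hx1
    have hy1 : n * x * n⁻¹ ≠ 1 := fun h => hx1 (conj_eq_one_iff.1 h)
    rcases four_cases h4 hx (hnZ x hx) hx1 hy1 (Ne.symm hne) (hel x hx) hc with
      rfl | rfl | rfl | rfl
    · exact one_mem L
    · exact hxL
    · exact hL x hxL
    · exact mul_mem hxL (hL x hxL)
  haveI : Nontrivial G := ⟨⟨z₀, 1, hz₀1⟩⟩
  obtain ⟨W, hWn, hW1, hWmin⟩ := exists_minimal_normal (G := G)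
  have hmeet : ∀ L : Subgroup G, L.Normal → L ≠ ⊥ → Z ≤ L := by
    intro L hL hL1
    haveI := hL
    obtain ⟨x, hxL, hxS, hx⟩ := exists_involution_mem hO S L hL1
    have hxx : x * x = 1 := by rw [← sq, ← hx, pow_orderOf_eq_one]
    exact hZle L (fun y hy => hL.conj_mem y hy n) x (hinv x hxS hxx)
      (fun h => by rw [h, orderOf_one] at hx; omega) hxL
  have hZW : Z ≤ W := hmeet W hWn hW1
  -- `W` is not abelian
  have hWna : ¬ ∀ a ∈ W, ∀ b ∈ W, a * b = b * a := by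
    intro hab
    let U : Subgroup G :=
      { carrier := {x | x ∈ W ∧ x * x = 1}
        one_mem' := ⟨one_mem W, one_mul 1⟩
        mul_mem' := fun {a b} ha hb => ⟨mul_mem ha.1 hb.1, by
          rw [show a * b * (a * b) = a * (b * a) * b by group, hab b hb.1 a ha.1,
            show a * (a * b) * b = a * a * (b * b) by group, ha.2, hb.2, one_mul]⟩
        inv_mem' := fun {a} ha => ⟨inv_mem ha.1, by rw [← mul_inv_rev, ha.2, inv_one]⟩ }
    haveI hUn : U.Normal := ⟨fun a ha g => ⟨hWn.conj_mem a ha.1 g, by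
      rw [show g * a * g⁻¹ * (g * a * g⁻¹) = g * (a * a) * g⁻¹ by group, ha.2]; group⟩⟩
    have hUp : IsPGroup 2 ↥U := fun a => ⟨1, by
      rw [pow_one, sq]; exact Subtype.ext a.2.2⟩
    have hUS : U ≤ (S : Subgroup G) := by
      obtain ⟨P, hP⟩ := hUp.exists_le_sylow
      obtain ⟨g, hg⟩ := MulAction.exists_smul_eq G P S
      intro a ha
      rw [← hg, Sylow.smul_def]
      refine ⟨g⁻¹ * a * g⁻¹⁻¹, hP (hUn.conj_mem a ha g⁻¹), ?_⟩
      show g * (g⁻¹ * a * g⁻¹⁻¹) * g⁻¹ = a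
      group
    have hZU : Z = U := le_antisymm (fun x hx => ⟨hZW hx, hel x hx⟩)
      (fun x hx => hinv x (hUS hx) hx.2)
    haveI : Z.Normal := hZU ▸ hUn
    have hSC : (S : Subgroup G) ≤ Subgroup.centralizer (Z : Set G) := fun s hs =>
      mem_centralizer_iff.2 fun x hx => hcen x hx s hs
    have hCn : (Subgroup.centralizer (Z : Set G)).Normal := inferInstance
    have hC := hO' _ hCn (by
      rw [Nat.odd_iff, ← Nat.two_dvd_ne_zero]
      exact fun h => S.not_dvd_index (h.trans (Subgroup.index_dvd_of_le hSC)))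
    refine (hcyc z₀ hz₀ hz₀1).1 ?_
    have hn : n ∈ Subgroup.centralizer (Z : Set G) := hC ▸ mem_top n
    rw [← mem_centralizer_iff.1 hn z₀ hz₀, mul_inv_cancel_right]
  -- a minimal normal subgroup of `W`
  haveI : Nontrivial ↥W := (Subgroup.nontrivial_iff_ne_bot W).2 hW1
  obtain ⟨M₀, hM₀n, hM₀1, hM₀min⟩ := exists_minimal_normal (G := ↥W)
  set M := M₀.map W.subtype with hMdef
  have hMW : M ≤ W := map_subtype_le M₀
  have hM1 : M ≠ ⊥ := fun h => hM₀1
    ((map_eq_bot_iff_of_injective _ (subtype_injective W)).1 h)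
  have hMW' : ∀ w ∈ W, ∀ x ∈ M, w * x * w⁻¹ ∈ M := by
    rintro w hw _ ⟨x, hx, rfl⟩
    exact ⟨_, hM₀n.conj_mem x hx ⟨w, hw⟩, rfl⟩
  -- conjugates of `M`
  let cj : G → Subgroup G := fun g => M.map (MulAut.conj g).toMonoidHom
  have hcjW : ∀ g, ∀ w ∈ W, ∀ x ∈ cj g, w * x * w⁻¹ ∈ cj g := by
    rintro g w hw _ ⟨x, hx, rfl⟩
    refine ⟨(g⁻¹ * w * g⁻¹⁻¹) * x * (g⁻¹ * w * g⁻¹⁻¹)⁻¹, hMW' _ (hWn.conj_mem w hw g⁻¹) x hx, ?_⟩
    show g * _ * g⁻¹ = w * (g * x * g⁻¹) * w⁻¹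
    group
  have hcjle : ∀ g, cj g ≤ W := by
    rintro g _ ⟨x, hx, rfl⟩
    exact hWn.conj_mem x (hMW hx) g
  have hmin : ∀ L : Subgroup G, L ≤ M → L ≠ ⊥ → (∀ w ∈ W, ∀ x ∈ L, w * x * w⁻¹ ∈ L) →
      L = M := by
    intro L hLM hL hinvL
    have h := hM₀min (L.subgroupOf W) ⟨fun x hx w => hinvL w w.2 x hx⟩
      (fun h => hL (by
        rw [← map_subgroupOf_eq_of_le (hLM.trans hMW), h, Subgroup.map_bot]))
      (fun x hx => by
        obtain ⟨y, hy, hyx⟩ := hLM hx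
        obtain rfl : y = x := Subtype.ext hyx
        exact hy)
    rw [hMdef, ← h, map_subgroupOf_eq_of_le (hLM.trans hMW)]
  have hcomm : ∀ g, cj g ≠ M → ∀ x ∈ M, ∀ y ∈ cj g, x * y = y * x := by
    intro g hne x hx y hy
    have hbot : cj g ⊓ M = ⊥ := by
      by_contra hb
      have h1 : cj g ⊓ M = M := hmin _ inf_le_right hb fun w hw a ha =>
        ⟨hcjW g w hw a ha.1, hMW' w hw a ha.2⟩
      refine hne (Subgroup.eq_of_le_of_card_ge (inf_eq_right.1 h1) ?_).symm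
      exact (Subgroup.card_map_of_injective (MulAut.conj g).injective).le
    have hm : x * y * x⁻¹ * y⁻¹ ∈ cj g ⊓ M :=
      Subgroup.mem_inf.2 ⟨mul_mem (hcjW g x (hMW hx) y hy) (inv_mem hy), by
        rw [show x * y * x⁻¹ * y⁻¹ = x * (y * x⁻¹ * y⁻¹) by group]
        exact mul_mem hx (hMW' y (hcjle g hy) _ (inv_mem hx))⟩
    rw [hbot, mem_bot, mul_inv_eq_one] at hm
    exact mul_inv_eq_iff_eq_mul.1 hm
  -- `W` is generated by the conjugates
  have hgen : W = ⨆ g, cj g := by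
    refine (hWmin _ ⟨fun x hx k => ?_⟩ (fun h => hM1 (le_bot_iff.1 ?_)) (iSup_le hcjle)).symm
    · refine Subgroup.iSup_induction (S := cj) (C := fun x => k * x * k⁻¹ ∈ ⨆ g, cj g) hx
        (fun g y hy => ?_) (by simp) (fun a b ha hb => ?_)
      · obtain ⟨m, hm, rfl⟩ := hy
        refine le_iSup cj (k * g) ⟨m, hm, ?_⟩
        show k * g * m * (k * g)⁻¹ = k * (g * m * g⁻¹) * k⁻¹
        group
      · rw [show k * (a * b) * k⁻¹ = k * a * k⁻¹ * (k * b * k⁻¹) by group]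
        exact mul_mem ha hb
    · rw [← h]
      refine le_trans (le_of_eq ?_) (le_iSup cj 1)
      show M = M.map (MulAut.conj (1 : G)).toMonoidHom
      rw [map_one]
      exact (Subgroup.map_id M).symm
  have hnormM : ∀ g, ∀ y ∈ cj g, ∀ (L : Subgroup G), L ≤ M →
      (∀ m ∈ M, ∀ x ∈ L, m * x * m⁻¹ ∈ L) → ∀ x ∈ L, y * x * y⁻¹ ∈ L := by
    intro g y hy L hL hLM x hx
    by_cases he : cj g = M
    · exact hLM y (he ▸ hy) x hx
    · rw [← hcomm g he x (hL hx) y hy, mul_inv_cancel_right]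
      exact hx
  -- `M` is not abelian
  have hMna : ¬ ∀ a ∈ M, ∀ b ∈ M, a * b = b * a := by
    intro hab
    have hall : ∀ g h, ∀ a ∈ cj g, ∀ b ∈ cj h, a * b = b * a := by
      intro g h a' ha' b' hb'
      obtain ⟨a, ha, rfl⟩ := ha'
      obtain ⟨b, hb, rfl⟩ := hb'
      have key : a * ((g⁻¹ * h) * b * (g⁻¹ * h)⁻¹) = (g⁻¹ * h) * b * (g⁻¹ * h)⁻¹ * a := by
        by_cases he : cj (g⁻¹ * h) = M
        · exact hab a ha _ (he ▸ ⟨b, hb, rfl⟩)
        · exact hcomm _ he a ha _ ⟨b, hb, rfl⟩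
      show g * a * g⁻¹ * (h * b * h⁻¹) = h * b * h⁻¹ * (g * a * g⁻¹)
      calc g * a * g⁻¹ * (h * b * h⁻¹)
          = g * (a * ((g⁻¹ * h) * b * (g⁻¹ * h)⁻¹)) * g⁻¹ := by group
        _ = g * ((g⁻¹ * h) * b * (g⁻¹ * h)⁻¹ * a) * g⁻¹ := by rw [key]
        _ = h * b * h⁻¹ * (g * a * g⁻¹) := by group
    refine hWna fun a ha b hb => ?_
    have h1 : W ≤ Subgroup.centralizer (W : Set G) := by
      conv_lhs => rw [hgen]
      refine iSup_le fun g x hx => ?_
      refine mem_centralizer_iff.2 fun y hy => ?_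
      have h2 : W ≤ Subgroup.centralizer ({x} : Set G) := by
        rw [hgen]
        exact iSup_le fun h z hz => mem_centralizer_singleton_iff.2 (hall h g z hz x hx)
      exact mem_centralizer_singleton_iff.1 (h2 hy)
    exact mem_centralizer_iff.1 (h1 hb) a ha
  have hMsimple : IsSimpleGroup ↥M := by
    haveI : Nontrivial ↥M := (Subgroup.nontrivial_iff_ne_bot M).2 hM1
    refine ⟨fun L hL => or_iff_not_imp_left.2 fun hL1 => ?_⟩
    have hLM : L.map M.subtype ≤ M := map_subtype_le L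
    have h := hmin (L.map M.subtype) hLM
      (fun h => hL1 ((map_eq_bot_iff_of_injective _ (subtype_injective M)).1 h)) fun w hw x hx => by
        have hmm : ∀ m ∈ M, ∀ x ∈ L.map M.subtype, m * x * m⁻¹ ∈ L.map M.subtype := by
          rintro m hm _ ⟨x, hx, rfl⟩
          exact ⟨_, hL.conj_mem x hx ⟨m, hm⟩, rfl⟩
        revert x
        have hle : W ≤ Subgroup.normalizer ((L.map M.subtype : Subgroup G) : Set G) := by
          rw [hgen]
          refine iSup_le fun g y hy => Subgroup.mem_normalizer_iff.2 fun x => ⟨fun hx => ?_,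
            fun hx => ?_⟩
          · exact hnormM g y hy _ hLM hmm x hx
          · have h3 := hnormM g y⁻¹ (inv_mem hy) _ hLM hmm _ hx
            rwa [show y⁻¹ * (y * x * y⁻¹) * y⁻¹⁻¹ = x by group] at h3
        exact fun x hx => (Subgroup.mem_normalizer_iff.1 (hle hw) x).1 hx
    exact Subgroup.map_injective (subtype_injective M)
      (h.trans (by rw [← MonoidHom.range_eq_map, range_subtype]))
  have hMc : ∀ x ∈ M, (∀ y ∈ M, x * y = y * x) → x = 1 := by
    intro x hx hc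
    rcases (inferInstance : (Subgroup.center ↥M).Normal).eq_bot_or_eq_top with h | h
    · have : (⟨x, hx⟩ : ↥M) ∈ Subgroup.center ↥M :=
        Subgroup.mem_center_iff.2 fun y => Subtype.ext (hc y y.2).symm
      rw [h, mem_bot] at this
      exact congrArg Subtype.val this
    · refine (hMna fun a ha b hb => ?_).elim
      have hb' : (⟨b, hb⟩ : ↥M) ∈ Subgroup.center ↥M := by rw [h]; trivial
      exact congrArg Subtype.val (Subgroup.mem_center_iff.1 hb' ⟨a, ha⟩)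
  -- an involution of `Z` in `M`
  have hMeven : 2 ∣ Nat.card ↥M := (Walter.even_card_of_simple hMsimple
    (fun h => hMna fun a ha b hb => congrArg Subtype.val (h.1.1 ⟨a, ha⟩ ⟨b, hb⟩))).two_dvd
  obtain ⟨z, hzM, hzZ, hz1⟩ : ∃ z ∈ M, z ∈ Z ∧ z ≠ 1 := by
    obtain ⟨t, ht⟩ := exists_prime_orderOf_dvd_card' 2 hMeven
    have ht' : orderOf (⟨(t : G), hMW t.2⟩ : ↥W) = 2 := by
      rw [← ht, ← Subgroup.orderOf_coe, ← Subgroup.orderOf_coe]
    obtain ⟨Q, hQ⟩ := Transfer.Fusion.exists_sylow_map_eq_inf W S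
    obtain ⟨R, hR⟩ := (IsPGroup.of_card (n := 1) (show Nat.card
      ↥(zpowers (⟨(t : G), hMW t.2⟩ : ↥W)) = 2 ^ 1 by
        rw [Nat.card_zpowers, ht', pow_one])).exists_le_sylow
    obtain ⟨k, hk⟩ := MulAction.exists_smul_eq ↥W R Q
    refine ⟨(k : G) * t * (k : G)⁻¹, hMW' k k.2 t t.2, hinv _ ?_ ?_, fun h => ?_⟩
    · have hm : k * ⟨(t : G), hMW t.2⟩ * k⁻¹ ∈ (Q : Subgroup ↥W) := by
        rw [← hk, Sylow.smul_def]
        exact ⟨_, hR (mem_zpowers _), rfl⟩
      have hm' : (k : G) * t * (k : G)⁻¹ ∈ W ⊓ (S : Subgroup G) := hQ ▸ ⟨_, hm, rfl⟩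
      exact hm'.2
    · have h2 : (t : G) * t = 1 := by
        rw [← sq, ← ht, ← Subgroup.orderOf_coe, pow_orderOf_eq_one]
      rw [show (k : G) * t * (k : G)⁻¹ * ((k : G) * t * (k : G)⁻¹)
        = (k : G) * (t * t) * (k : G)⁻¹ by group, h2]
      group
    · rw [conj_eq_one_iff] at h
      rw [← Subgroup.orderOf_coe, h, orderOf_one] at ht
      omega
  obtain ⟨hne, hsq⟩ := hcyc z hzZ hz1
  have hzn : n * z * n⁻¹ ∈ cj n := ⟨z, hzM, rfl⟩
  have hnM : cj n = M := by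
    by_contra hne'
    have h3 : n * (n * z * n⁻¹) * n⁻¹ ∈ cj (n * n) := by
      refine ⟨z, hzM, ?_⟩
      show n * n * z * (n * n)⁻¹ = _
      group
    rw [hsq] at h3
    by_cases he : cj (n * n) = M
    · have h4 : n * z * n⁻¹ ∈ M := by
        rw [he] at h3
        simpa using mul_mem (inv_mem hzM) h3
      exact hz1 (conj_eq_one_iff.1 (hMc _ h4 fun y hy => (hcomm n hne' y hy _ hzn).symm))
    · refine hz1 (hMc z hzM fun y hy => ?_)
      have h4 : Commute y (z * (n * z * n⁻¹)) := hcomm _ he y hy _ h3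
      have h5 : Commute y (n * z * n⁻¹) := hcomm n hne' y hy _ hzn
      have h6 := h4.mul_right h5.inv_right
      rw [mul_inv_cancel_right] at h6
      exact h6.symm
  have hZM : Z ≤ M := hZle M (fun x hx => hnM ▸ ⟨x, hx, rfl⟩) z hzZ hz1 hzM
  have hnorm : ∀ g, cj g = M := by
    intro g
    by_contra hne'
    -- an involution of `Z` in the conjugate
    obtain ⟨t, ht⟩ := exists_prime_orderOf_dvd_card' 2
      (hMeven.trans (dvd_of_eq (Subgroup.card_map_of_injective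
        (K := M) (MulAut.conj g).injective).symm) : 2 ∣ Nat.card ↥(cj g))
    obtain ⟨Q, hQ⟩ := Transfer.Fusion.exists_sylow_map_eq_inf W S
    have ht' : orderOf (⟨(t : G), hcjle g t.2⟩ : ↥W) = 2 := by
      rw [← ht, ← Subgroup.orderOf_coe, ← Subgroup.orderOf_coe]
    obtain ⟨R, hR⟩ := (IsPGroup.of_card (n := 1) (show Nat.card
      ↥(zpowers (⟨(t : G), hcjle g t.2⟩ : ↥W)) = 2 ^ 1 by
        rw [Nat.card_zpowers, ht', pow_one])).exists_le_sylow
    obtain ⟨k, hk⟩ := MulAction.exists_smul_eq ↥W R Q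
    have hm : k * ⟨(t : G), hcjle g t.2⟩ * k⁻¹ ∈ (Q : Subgroup ↥W) := by
      rw [← hk, Sylow.smul_def]
      exact ⟨_, hR (mem_zpowers _), rfl⟩
    have hm' : (k : G) * t * (k : G)⁻¹ ∈ W ⊓ (S : Subgroup G) := hQ ▸ ⟨_, hm, rfl⟩
    have h2 : (t : G) * t = 1 := by
      rw [← sq, ← ht, ← Subgroup.orderOf_coe, pow_orderOf_eq_one]
    have hkM : (k : G) * t * (k : G)⁻¹ ∈ M := hZM (hinv _ hm'.2 (by
      rw [show (k : G) * t * (k : G)⁻¹ * ((k : G) * t * (k : G)⁻¹)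
        = (k : G) * (t * t) * (k : G)⁻¹ by group, h2]
      group))
    have h1 := hMc _ hkM fun y hy => (hcomm g hne' y hy _ (hcjW g k k.2 t t.2)).symm
    rw [conj_eq_one_iff] at h1
    rw [← Subgroup.orderOf_coe, h1, orderOf_one] at ht
    omega
  have hWM : W = M := by rw [hgen]; simp [hnorm]
  refine ⟨W, hWn, hWM ▸ hMsimple, fun h => hWna fun a ha b hb =>
    congrArg Subtype.val (h.1.1 ⟨a, ha⟩ ⟨b, hb⟩), hZW, ?_⟩
  by_contra hC
  have hle := hmeet _ inferInstance hC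
  obtain ⟨x, hx, hx1⟩ := Z.bot_or_exists_ne_one.resolve_left
    (fun h => by rw [h, Subgroup.card_bot] at h4; omega)
  exact hx1 (hMc x (hZM hx) fun y hy =>
    ((mem_centralizer_iff.1 (hle hx)) y (hWM ▸ hy)).symm)

end Cfsg.Agent.Lib.U34Recog67
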