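import Cfsg.Agent.Lib.U34Recog67.Automizer
import Mathlib.RingTheory.RootsOfUnity.Basic

/-!
# The statement of S3176, from Goldschmidt's theorem for simple groups

helper67.
-/

set_option autoImplicit false
set_option linter.style.haveILetI false

open Subgroup

namespace Cfsg.Agent.Lib.U34Recog67

open Goldschmidt53 (PropSimple Om)

universe u v w

/-- An additive subgroup of a field with 16 elements that is closed under multiplication by a fifth
root of unity other than 1 is trivial or everything. -/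
theorem eq_top_of_mul_closed {F : Type w} [Field F] [Fintype F] (h16 : Fintype.card F = 16)
    {l : F} (h5 : l ^ 5 = 1) (h1 : l ≠ 1) (V : AddSubgroup F) (hV : ∀ x ∈ V, l * x ∈ V) {x : F}
    (hx : x ∈ V) (hx0 : x ≠ 0) : V = ⊤ := by
  classical
  haveI : Fact (Nat.Prime 5) := ⟨by norm_num⟩
  have hl : orderOf l = 5 := orderOf_eq_prime h5 h1
  have hl0 : l ≠ 0 := fun h => by simp [h] at h5
  have hd : Nat.card ↥V ∣ 16 := by
    rw [← h16, ← Nat.card_eq_fintype_card]
    exact AddSubgroup.card_addSubgroup_dvd_card V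
  have hpow : ∀ (j : ℕ) (y : F), y ∈ V → l ^ j * y ∈ V := by
    intro j
    induction j with
    | zero => intro y hy; simpa using hy
    | succ j ih => intro y hy; rw [pow_succ', mul_assoc]; exact hV _ (ih y hy)
  let orb : F → Finset F := fun y => (Finset.range 5).image fun j => l ^ j * y
  have horb : ∀ y : F, y ≠ 0 → (orb y).card = 5 := by
    intro y hy
    rw [Finset.card_image_of_injOn, Finset.card_range]
    intro i hi j hj hij
    exact pow_injOn_Iio_orderOf (by simpa [hl] using hi) (by simpa [hl] using hj)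
      (mul_right_cancel₀ hy hij)
  let s : Finset F := Finset.univ.filter (· ∈ V)
  have hs : s.card = Nat.card ↥V := by
    rw [Nat.card_eq_fintype_card]
    exact (Fintype.card_subtype _).symm
  have hsub : ∀ y ∈ V, orb y ⊆ s := by
    intro y hy z hz
    obtain ⟨j, -, rfl⟩ := Finset.mem_image.1 hz
    simp [s, hpow j y hy]
  have hzero : (0 : F) ∈ s := by simp [s, V.zero_mem]
  have h0 : ∀ y : F, y ≠ 0 → (0 : F) ∉ orb y := by
    intro y hy hmem
    obtain ⟨j, -, hj⟩ := Finset.mem_image.1 hmem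
    exact mul_ne_zero (pow_ne_zero j hl0) hy hj
  have h6 : 6 ≤ s.card := by
    have h := Finset.card_le_card (Finset.insert_subset hzero (hsub x hx))
    rwa [Finset.card_insert_of_notMem (h0 x hx0), horb x hx0] at h
  refine AddSubgroup.eq_top_of_card_eq V ?_
  rw [Nat.card_eq_fintype_card (α := F), h16]
  have hle : Nat.card ↥V ≤ 16 := Nat.le_of_dvd (by norm_num) hd
  have hdiv : ∀ k : ℕ, k ∣ 16 → k = 1 ∨ k = 2 ∨ k = 4 ∨ k = 8 ∨ k = 16 := fun k hk => by
    have := Nat.le_of_dvd (by norm_num) hk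
    interval_cases k <;> simp_all
  rcases Nat.lt_or_ge 8 (Nat.card ↥V) with h | h
  · have := hdiv _ hd
    omega
  · exfalso
    obtain ⟨y, hy, hyn⟩ : ∃ y ∈ s, y ∉ insert (0 : F) (orb x) := by
      by_contra! hcon
      have h' : s.card ≤ 6 := by
        have := Finset.card_le_card hcon
        rwa [Finset.card_insert_of_notMem (h0 x hx0), horb x hx0] at this
      have := hdiv _ hd
      rw [hs] at h' h6
      omega
    rw [Finset.mem_insert, not_or] at hyn
    have hdisj : Disjoint (orb x) (orb y) := by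
      rw [Finset.disjoint_left]
      intro z hzx hzy
      obtain ⟨i, -, rfl⟩ := Finset.mem_image.1 hzx
      obtain ⟨j, hj, hji⟩ := Finset.mem_image.1 hzy
      refine hyn.2 (Finset.mem_image.2
        ⟨(i + (5 - j)) % 5, Finset.mem_range.2 (Nat.mod_lt _ (by norm_num)), ?_⟩)
      rw [← hl, pow_mod_orderOf, hl, pow_add, mul_comm (l ^ i), mul_assoc, ← hji, ← mul_assoc,
        ← pow_add, Nat.sub_add_cancel (Finset.mem_range.1 hj).le, h5, one_mul]
    have hyV : y ∈ V := by simpa [s] using hy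
    have := Finset.card_le_card (Finset.union_subset (hsub x hx) (hsub y hyV))
    rw [Finset.card_union_of_disjoint hdisj, horb x hx0, horb y hyn.1, hs] at this
    omega

variable {G : Type u} [Group G] [Finite G]

/-- The case of a central `Z`. -/
theorem isPGroup_of_central {F : Type w} [Field F] [Fintype F] (hF : Fintype.card F = (2 ^ 2) ^ 2)
    (hP : PropSimple.{u}) (hO : Cfsg.oddCore G = ⊥)
    (hO' : ∀ N : Subgroup G, N.Normal → Odd N.index → N = ⊤) (S : Sylow 2 G)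
    (c : U3Sylow.Coords F (2 ^ 2) ↥(S : Subgroup G))
    (hcentral : ∀ s : ↥(S : Subgroup G), c.a s = 0 → (s : G) ∈ Subgroup.center G) :
    (S : Subgroup G) = ⊤ := by
  classical
  haveI : Fact (Nat.Prime 2) := ⟨Nat.prime_two⟩
  have h16 : Fintype.card F = 16 := by rw [hF]; norm_num
  set Z : Subgroup G := (Subgroup.center ↥(S : Subgroup G)).map (S : Subgroup G).subtype with hZ
  have hZmem : ∀ s : ↥(S : Subgroup G), (s : G) ∈ Z ↔ c.a s = 0 := by
    intro s
    rw [hZ, Subgroup.mem_map, ← c.mem_center_iff hF]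
    exact ⟨fun ⟨t, ht, hts⟩ => by rwa [← Subtype.ext hts], fun h => ⟨s, h, rfl⟩⟩
  have hZS : Z ≤ (S : Subgroup G) := map_subtype_le _
  have hZc : Z ≤ Subgroup.center G := fun x hx =>
    hcentral ⟨x, hZS hx⟩ ((hZmem ⟨x, hZS hx⟩).1 hx)
  haveI hZn : Z.Normal := ⟨fun x hx g => by
    rwa [Subgroup.mem_center_iff.1 (hZc hx) g, mul_inv_cancel_right]⟩
  have hZ4 : Nat.card ↥Z = 4 := by
    rw [hZ, Subgroup.card_map_of_injective (Subgroup.subtype_injective _), c.card_center hF]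
    norm_num
  set π := QuotientGroup.mk' Z with hπ
  have hπs : Function.Surjective π := QuotientGroup.mk'_surjective Z
  have hker : ∀ x, π x = 1 ↔ x ∈ Z := fun x => QuotientGroup.eq_one_iff x
  -- no odd normal subgroup upstairs
  have hOQ : ∀ N : Subgroup (G ⧸ Z), N.Normal → Odd (Nat.card ↥N) → N = ⊥ := by
    intro N hN hodd
    set K := N.comap π with hK
    haveI : K.Normal := hN.comap π
    obtain ⟨T, hT⟩ := Transfer.Fusion.exists_sylow_map_eq_inf K S
    have hTZ : K ⊓ (S : Subgroup G) = Z := by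
      refine le_antisymm (fun x hx => (hker x).1 ?_) (le_inf (fun x hx => ?_) hZS)
      · obtain ⟨k, hk⟩ := IsPGroup.iff_orderOf.1 S.2 ⟨x, hx.2⟩
        rw [Subgroup.orderOf_mk] at hk
        have h1 : orderOf (π x) ∣ 2 ^ k := hk ▸ orderOf_map_dvd π x
        have h2 : orderOf (π x) ∣ Nat.card ↥N := Subgroup.orderOf_dvd_natCard N hx.1
        exact orderOf_eq_one_iff.1 (Nat.eq_one_of_dvd_coprimes
          (Nat.Coprime.pow_left k (Nat.coprime_two_left.2 hodd)) h1 h2)
      · show π x ∈ N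
        rw [(hker x).2 hx]
        exact one_mem N
    have hTc : normalizer ((T : Subgroup ↥K) : Set ↥K)
        ≤ Subgroup.centralizer ((T : Subgroup ↥K) : Set ↥K) := by
      intro x _
      refine mem_centralizer_iff.2 fun y hy => Subtype.ext ?_
      have hy' : (y : G) ∈ K ⊓ (S : Subgroup G) := hT ▸ ⟨y, hy, rfl⟩
      rw [hTZ] at hy'
      exact (Subgroup.mem_center_iff.1 (hZc hy') x).symm
    set φ := MonoidHom.transferSylow T hTc with hφ
    have hc := MonoidHom.ker_transferSylow_isComplement' T hTc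
    set H := φ.ker.map K.subtype with hH
    have hHodd : Odd (Nat.card ↥φ.ker) := by
      rw [Nat.odd_iff, ← Nat.two_dvd_ne_zero]
      intro h2
      obtain ⟨x, hx⟩ := exists_prime_orderOf_dvd_card' 2 h2
      exact (MonoidHom.not_dvd_card_ker_transferSylow T hTc) h2
    haveI : H.Normal := ⟨by
      rintro _ ⟨x, hx, rfl⟩ g
      refine ⟨⟨g * (x : G) * g⁻¹, ‹K.Normal›.conj_mem _ x.2 g⟩, ?_, rfl⟩
      rw [SetLike.mem_coe, MonoidHom.mem_ker]
      have ho : Odd (orderOf (⟨g * (x : G) * g⁻¹, ‹K.Normal›.conj_mem _ x.2 g⟩ : ↥K)) := by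
        rw [Subgroup.orderOf_mk, show g * (x : G) * g⁻¹ = MulAut.conj g (x : G) from rfl,
          MulEquiv.orderOf_eq, Subgroup.orderOf_coe]
        exact hHodd.of_dvd_nat (Subgroup.orderOf_dvd_natCard _ hx)
      set y : ↥K := ⟨g * (x : G) * g⁻¹, ‹K.Normal›.conj_mem _ x.2 g⟩
      obtain ⟨k, hk⟩ := IsPGroup.iff_orderOf.1 T.2 (φ y)
      exact orderOf_eq_one_iff.1 (Nat.eq_one_of_dvd_coprimes
        (Nat.Coprime.pow_left k (Nat.coprime_two_left.2 ho)) (dvd_of_eq hk)
        (orderOf_map_dvd φ y))⟩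
    have hHb : H = ⊥ := no_odd_normal hO H (by
      rwa [hH, Subgroup.card_map_of_injective (Subgroup.subtype_injective _)])
    have hKb : φ.ker = ⊥ := (map_eq_bot_iff_of_injective _ (subtype_injective K)).1 hHb
    rw [hKb] at hc
    have hTtop : (T : Subgroup ↥K) = ⊤ := Subgroup.isComplement'_bot_left.1 hc
    have hKZ : K = Z := by
      rw [← hTZ, ← hT, hTtop, ← MonoidHom.range_eq_map, range_subtype]
    refine le_bot_iff.1 fun y hy => ?_
    obtain ⟨x, rfl⟩ := hπs y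
    exact (hker x).2 (hKZ ▸ hy)
  have hOQ' : Cfsg.oddCore (G ⧸ Z) = ⊥ :=
    hOQ _ (by unfold Cfsg.oddCore; infer_instance) ZStar.Elements.oddCore_odd
  have hidx : ∀ N : Subgroup (G ⧸ Z), N.Normal → Odd N.index → N = ⊤ := by
    intro N hN hodd
    have h := hO' (N.comap π) (hN.comap π) (by rwa [Subgroup.index_comap_of_surjective N hπs])
    rw [← Subgroup.map_comap_eq_self_of_surjective hπs N, h, Subgroup.map_top_of_surjective π hπs]
  set T := S.mapSurjective (f := π) hπs with hTdef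
  have hTmem : ∀ y ∈ (T : Subgroup (G ⧸ Z)), ∃ s : ↥(S : Subgroup G), π s = y := by
    rintro _ ⟨s, hs, rfl⟩
    exact ⟨⟨s, hs⟩, rfl⟩
  have heq : ∀ s t : ↥(S : Subgroup G), π s = π t ↔ c.a s = c.a t := by
    intro s t
    rw [← mul_inv_eq_one, ← map_inv, ← map_mul, hker,
      show (s : G) * (t : G)⁻¹ = ((s * t⁻¹ : ↥(S : Subgroup G)) : G) from rfl, hZmem]
    have h1 : c.a s = c.a (s * t⁻¹) + c.a t := by rw [← c.a_mul, inv_mul_cancel_right]
    constructor <;> intro h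
    · rw [h1, h, zero_add]
    · linear_combination h - h1
  have hTel : Cfsg.IsElementaryAbelian 2 (T : Subgroup (G ⧸ Z)) := by
    refine ⟨⟨⟨fun a b => Subtype.ext ?_⟩⟩, fun a ha => ?_⟩
    · obtain ⟨s, hs⟩ := hTmem _ a.2
      obtain ⟨t, ht⟩ := hTmem _ b.2
      show (a : G ⧸ Z) * b = b * a
      rw [← hs, ← ht, ← map_mul, ← map_mul]
      exact (heq (s * t) (t * s)).2 (by rw [c.a_mul, c.a_mul, add_comm])
    · obtain ⟨s, rfl⟩ := hTmem _ ha
      rw [sq, ← map_mul, hker]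
      exact (hZmem (s * s)).2 (c.a_sq hF s)
  -- the action of the normalizer
  have hact : ∀ y ∈ normalizer ((T : Subgroup (G ⧸ Z)) : Set (G ⧸ Z)), ∃ l : F, l ^ 5 = 1 ∧
      ∀ s : ↥(S : Subgroup G), ∃ t : ↥(S : Subgroup G),
        π t = y * π s * y⁻¹ ∧ c.a t = l * c.a s := by
    intro y hy
    obtain ⟨g, rfl⟩ := hπs y
    have hback : ∀ x, π x ∈ (T : Subgroup (G ⧸ Z)) → x ∈ (S : Subgroup G) := by
      intro x hx
      obtain ⟨t, ht⟩ := hTmem _ hx
      have : (t : G)⁻¹ * x ∈ Z := (hker _).1 (by rw [map_mul, map_inv, ht, inv_mul_cancel])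
      simpa using mul_mem t.2 (hZS this)
    have hgS : g ∈ normalizer ((S : Subgroup G) : Set G) := by
      refine Subgroup.mem_normalizer_iff.2 fun x => ⟨fun hx => hback _ ?_, fun hx => hback _ ?_⟩
      · rw [map_mul, map_mul, map_inv]
        exact (Subgroup.mem_normalizer_iff.1 hy (π x)).1 ⟨x, hx, rfl⟩
      · refine (Subgroup.mem_normalizer_iff.1 hy (π x)).2 ?_
        rw [← map_inv, ← map_mul, ← map_mul]
        exact ⟨_, hx, rfl⟩
    -- split off the 2-part of `g`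
    obtain ⟨e, m, hm2, hgm⟩ := Nat.exists_eq_pow_mul_and_not_dvd (orderOf_pos g).ne' 2 (by norm_num)
    have hmodd : Odd m := by rwa [Nat.odd_iff, ← Nat.two_dvd_ne_zero]
    have hcop : Nat.Coprime m (2 ^ e) :=
      Nat.Coprime.pow_right e (Nat.coprime_two_right.2 hmodd)
    set u := Nat.gcdA m (2 ^ e)
    set v := Nat.gcdB m (2 ^ e)
    set a := g ^ ((2 ^ e : ℕ) * v : ℤ) with hadef
    set b := g ^ ((m : ℤ) * u) with hbdef
    have hab : g = b * a := by
      rw [hadef, hbdef, ← zpow_add, ← Nat.gcd_eq_gcd_ab, Nat.Coprime.gcd_eq_one hcop,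
        Nat.cast_one, zpow_one]
    have haN : a ∈ normalizer ((S : Subgroup G) : Set G) := zpow_mem hgS _
    have hbS : b ∈ (S : Subgroup G) := by
      rw [hbdef, zpow_mul, zpow_natCast]
      refine zpow_mem ?_ u
      have hp : IsPGroup 2 ↥(zpowers (g ^ m)) := IsPGroup.of_card (n := e) (by
        rw [Nat.card_zpowers, orderOf_pow, hgm, Nat.gcd_mul_left_left,
          Nat.mul_div_cancel _ (Nat.pos_of_ne_zero fun h => by simp [h] at hmodd)])
      have hle : zpowers (g ^ m) ≤ normalizer ((S : Subgroup G) : Set G) :=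
        zpowers_le.2 (pow_mem hgS m)
      have h := S.3 (hp.to_sup_of_normal_right' S.2 hle) le_sup_right
      exact (le_sup_left.trans h.le) (mem_zpowers _)
    let φ := Subgroup.normalizerMonoidHom (S : Subgroup G)
    set α := φ ⟨a, haN⟩ with hα
    have hαval : ∀ s : ↥(S : Subgroup G), ((α s : ↥(S : Subgroup G)) : G) = a * s * a⁻¹ :=
      fun s => rfl
    have hpow : α ^ m = 1 := by
      rw [hα, ← map_pow, show (⟨a, haN⟩ : ↥(normalizer ((S : Subgroup G) : Set G))) ^ m = 1 from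
        Subtype.ext ?_, map_one]
      show a ^ m = 1
      rw [hadef, ← zpow_natCast, ← zpow_mul]
      refine orderOf_dvd_iff_zpow_eq_one.1 ⟨v, ?_⟩
      rw [hgm]
      push_cast
      ring
    obtain ⟨l, hl5, hl⟩ := exists_root hF c α hmodd hpow fun s hs => Subtype.ext (by
      rw [hαval, Subgroup.mem_center_iff.1 (hcentral s hs) a, mul_inv_cancel_right])
    refine ⟨l, hl5, fun s => ⟨⟨b, hbS⟩ * α s * ⟨b, hbS⟩⁻¹, ?_, ?_⟩⟩
    · rw [hab]
      simp only [Subgroup.coe_mul, InvMemClass.coe_inv, hαval, map_mul, map_inv, mul_inv_rev,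
        mul_assoc]
    · have h1 := c.a_mul (⟨b, hbS⟩ : ↥(S : Subgroup G)) ⟨b, hbS⟩⁻¹
      rw [mul_inv_cancel, c.a_one] at h1
      rw [c.a_mul, c.a_mul, hl]
      linear_combination -h1
  by_cases htriv : normalizer ((T : Subgroup (G ⧸ Z)) : Set (G ⧸ Z))
      ≤ Subgroup.centralizer ((T : Subgroup (G ⧸ Z)) : Set (G ⧸ Z))
  · -- a normal 2-complement
    have hc := MonoidHom.ker_transferSylow_isComplement' T htriv
    have hb : (MonoidHom.transferSylow T htriv).ker = ⊥ := hOQ _ inferInstance (by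
      rw [Nat.odd_iff, ← Nat.two_dvd_ne_zero]
      exact MonoidHom.not_dvd_card_ker_transferSylow T htriv)
    rw [hb, Subgroup.isComplement'_bot_left] at hc
    refine eq_top_iff.2 fun x _ => ?_
    obtain ⟨t, ht⟩ := hTmem (π x) (hc ▸ mem_top _)
    have : (t : G)⁻¹ * x ∈ Z := (hker _).1 (by rw [map_mul, map_inv, ht, inv_mul_cancel])
    simpa using mul_mem t.2 (hZS this)
  exfalso
  obtain ⟨y, hyN, s₁, hy₁⟩ : ∃ y ∈ normalizer ((T : Subgroup (G ⧸ Z)) : Set (G ⧸ Z)),
      ∃ s : ↥(S : Subgroup G), y * π s * y⁻¹ ≠ π s := by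
    by_contra! hcon
    refine htriv fun y hy => mem_centralizer_iff.2 fun x hx => ?_
    obtain ⟨s, rfl⟩ := hTmem x hx
    exact (mul_inv_eq_iff_eq_mul.1 (hcon y hy s)).symm
  obtain ⟨l, hl5, hl⟩ := hact y hyN
  have hl1 : l ≠ 1 := by
    rintro rfl
    obtain ⟨t, ht, hta⟩ := hl s₁
    exact hy₁ (ht.symm.trans ((heq t s₁).2 (by rw [hta, one_mul])))
  have hT1 : (T : Subgroup (G ⧸ Z)) ≠ ⊥ := fun h => hy₁ (by
    have h' : π s₁ ∈ (T : Subgroup (G ⧸ Z)) := ⟨s₁, s₁.2, rfl⟩
    rw [h, mem_bot] at h'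
    rw [h', mul_one, mul_inv_cancel])
  -- normal subgroups contain the Sylow subgroup
  have hcontain : ∀ W : Subgroup (G ⧸ Z), W.Normal → W ≠ ⊥ → W = ⊤ := by
    intro W hW hW1
    haveI := hW
    obtain ⟨x, hxW, hxT, hx⟩ := exists_involution_mem hOQ' T W hW1
    obtain ⟨s, rfl⟩ := hTmem x hxT
    let V : AddSubgroup F :=
      { carrier := {z | ∃ t : ↥(S : Subgroup G), π t ∈ W ∧ c.a t = z}
        zero_mem' := ⟨1, by simp, c.a_one⟩
        add_mem' := fun {a b} ⟨t, ht, hta⟩ ⟨t', ht', htb⟩ => ⟨t * t', by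
          rw [Subgroup.coe_mul, map_mul]; exact mul_mem ht ht', by rw [c.a_mul, hta, htb]⟩
        neg_mem' := fun {a} ⟨t, ht, hta⟩ => ⟨t⁻¹, by
          rw [InvMemClass.coe_inv, map_inv]; exact inv_mem ht, by
          have h := c.a_mul t t⁻¹
          rw [mul_inv_cancel, c.a_one, hta] at h
          linear_combination -h⟩ }
    have hV := eq_top_of_mul_closed h16 hl5 hl1 V (fun z ⟨t, ht, hz⟩ => by
        obtain ⟨t', ht', hta⟩ := hl t
        exact ⟨t', by rw [ht']; exact hW.conj_mem _ ht y, by rw [hta, hz]⟩)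
      (show c.a s ∈ V from ⟨s, hxW, rfl⟩) (fun h => by
        have h1 : π s = π ((1 : ↥(S : Subgroup G)) : G) := (heq s 1).2 (by rw [h, c.a_one])
        rw [h1, Subgroup.coe_one, map_one, orderOf_one] at hx
        omega)
    refine hidx W hW ?_
    have hTW : (T : Subgroup (G ⧸ Z)) ≤ W := by
      intro z hz
      obtain ⟨t, rfl⟩ := hTmem z hz
      obtain ⟨t', ht', hta⟩ : c.a t ∈ V := hV ▸ AddSubgroup.mem_top _
      rwa [← (heq t' t).2 hta]
    rw [Nat.odd_iff, ← Nat.two_dvd_ne_zero]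
    exact fun h => T.not_dvd_index (h.trans (Subgroup.index_dvd_of_le hTW))
  haveI : Nontrivial (G ⧸ Z) := ⟨⟨π s₁, y * π s₁ * y⁻¹, hy₁.symm⟩⟩
  have hs : IsSimpleGroup (G ⧸ Z) := ⟨fun W hW => or_iff_not_imp_left.2 (hcontain W hW)⟩
  have hna : ¬ IsMulCommutative (G ⧸ Z) := fun h => hy₁ (by
    rw [h.1.1 y, mul_inv_cancel_right])
  obtain ⟨hK, -⟩ := hP _ (G ⧸ Z) (Nat.lt_succ_self _) hs hna T (T : Subgroup (G ⧸ Z)) hT1 hTel
    ⟨le_rfl, fun _ _ _ h => h⟩
  have hconj := (Goldschmidt53.facts _ hK).conj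
  -- the orbit of an involution of `T` has at most five elements
  obtain ⟨s₀, hs₀⟩ := c.exists_a hF (1 : F)
  have hord : ∀ s : ↥(S : Subgroup G), c.a s ≠ 0 → orderOf (π s) = 2 := by
    intro s hs
    refine orderOf_eq_prime ?_ fun h => hs ?_
    · exact hTel.2 _ ⟨s, s.2, rfl⟩
    · have h' := (hker _).1 h
      exact (hZmem s).1 h'
  have hsub : (Finset.univ.erase (0 : F)) ⊆ (Polynomial.nthRoots 5 (1 : F)).toFinset := by
    intro z hz
    have hz0 : z ≠ 0 := (Finset.mem_erase.1 hz).1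
    obtain ⟨s, hsz⟩ := c.exists_a hF z
    haveI := hTel.1
    obtain ⟨n, hn, hne⟩ := HalfClasses.burnside (P := T) (x := π s₀) (y := π s)
      (fun x hx => setLike_mul_comm (s := (T : Subgroup (G ⧸ Z))) hx ⟨s₀, s₀.2, rfl⟩)
      (fun x hx => setLike_mul_comm (s := (T : Subgroup (G ⧸ Z))) hx ⟨s, s.2, rfl⟩)
      (hconj _ _ (hord s₀ (by rw [hs₀]; exact one_ne_zero)) (hord s (by rwa [hsz])))
    obtain ⟨l', hl', hn'⟩ := hact n hn
    obtain ⟨t, ht, hta⟩ := hn' s₀
    rw [Multiset.mem_toFinset, Polynomial.mem_nthRoots (by norm_num)]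
    rw [(heq t s).1 (ht.trans hne), hs₀, mul_one, hsz] at hta
    rw [hta, hl']
  have h15 := (Finset.card_le_card hsub).trans
    ((Multiset.toFinset_card_le _).trans (Polynomial.card_nthRoots 5 (1 : F)))
  rw [Finset.card_erase_of_mem (Finset.mem_univ _), Finset.card_univ, h16] at h15
  omega

/-- The statement of S3176. -/
theorem row3176 (hP : PropSimple.{u}) {F : Type w} [Field F] [Fintype F] (hF : Fintype.card F = 16)
    (S : Sylow 2 G) (P : Sylow 2 (Cfsg.PSU 3 F 4))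
    (hS : Nonempty (↥(S : Subgroup G) ≃* ↥(P : Subgroup (Cfsg.PSU 3 F 4))))
    (hO : Cfsg.oddCore G = ⊥) (hO' : ∀ N : Subgroup G, N.Normal → Odd N.index → N = ⊤) :
    Nonempty (G ≃* Cfsg.PSU 3 F 4) ∨ (S : Subgroup G) = ⊤ := by
  classical
  haveI : Fact (Nat.Prime 2) := ⟨Nat.prime_two⟩
  have hF2 : Fintype.card F = (2 ^ 2) ^ 2 := by rw [hF]; norm_num
  obtain ⟨φ⟩ := hS
  obtain ⟨c₀⟩ : Nonempty (U3Sylow.Coords F (2 ^ 2) ↥(P : Subgroup (Cfsg.PSU 3 F 4))) :=
    U3Sylow.exists_coords_PSU (n := 2) hF2 P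
  let c := c₀.trans φ
  set Z : Subgroup G := (Subgroup.center ↥(S : Subgroup G)).map (S : Subgroup G).subtype with hZ
  have hZmem : ∀ s : ↥(S : Subgroup G), (s : G) ∈ Z ↔ c.a s = 0 := by
    intro s
    rw [hZ, Subgroup.mem_map, ← c.mem_center_iff hF2]
    exact ⟨fun ⟨t, ht, hts⟩ => by rwa [← Subtype.ext hts], fun h => ⟨s, h, rfl⟩⟩
  have hZS : Z ≤ (S : Subgroup G) := map_subtype_le _
  have h4 : Nat.card ↥Z = 4 := by
    rw [hZ, Subgroup.card_map_of_injective (Subgroup.subtype_injective _), c.card_center hF2]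
    norm_num
  have hel : ∀ x ∈ Z, x * x = 1 := fun x hx => congrArg Subtype.val
    ((c.sq_eq_one_iff hF2 (s := ⟨x, hZS hx⟩)).2 ((hZmem ⟨x, hZS hx⟩).1 hx))
  have hinv : ∀ x ∈ (S : Subgroup G), x * x = 1 → x ∈ Z := fun x hx h =>
    (hZmem ⟨x, hx⟩).2 ((c.sq_eq_one_iff hF2).1 (Subtype.ext h))
  have hcen : ∀ x ∈ Z, ∀ y ∈ (S : Subgroup G), x * y = y * x := fun x hx y hy =>
    congrArg Subtype.val (Subgroup.mem_center_iff.1
      ((c.mem_center_iff hF2 (s := ⟨x, hZS hx⟩)).2 ((hZmem ⟨x, hZS hx⟩).1 hx)) ⟨y, hy⟩).symm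
  have hZconj : ∀ x ∈ Z, ∀ g, g * x * g⁻¹ ∈ (S : Subgroup G) → g * x * g⁻¹ ∈ Z := by
    intro x hx g hg
    refine hinv _ hg ?_
    rw [show g * x * g⁻¹ * (g * x * g⁻¹) = g * (x * x) * g⁻¹ by group, hel x hx]
    group
  by_cases hfix : ∀ x ∈ Z, ∀ g, g * x * g⁻¹ ∈ (S : Subgroup G) → g * x * g⁻¹ = x
  · refine Or.inr (isPGroup_of_central hF2 hP hO hO' S c fun s hs => ?_)
    have hmem := (hZmem s).2 hs
    refine Subgroup.mem_center_iff.2 fun g => ?_
    have h := ZStar.Elements.commutator_mem_oddCore ZStar.StronglyClosed.involutionThm _ G S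
      (s : G) rfl ⟨s.2, hfix _ hmem⟩ g
    rw [hO, mem_bot, mul_inv_eq_one, mul_inv_eq_iff_eq_mul] at h
    exact h.symm
  push Not at hfix
  obtain ⟨x, hx, g, hg, hgx⟩ := hfix
  have hxZ := hZconj x hx g hg
  obtain ⟨n, hn, hne⟩ := HalfClasses.burnside (P := S) (x := x) (y := g * x * g⁻¹)
    (fun s hs => (hcen x hx s hs).symm) (fun s hs => (hcen _ hxZ s hs).symm)
    (isConj_iff.2 ⟨g, rfl⟩)
  have hnS : ∀ y ∈ (S : Subgroup G), n * y * n⁻¹ ∈ (S : Subgroup G) := fun y hy =>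
    (Subgroup.mem_normalizer_iff.1 hn y).1 hy
  have hnZ : ∀ y ∈ Z, n * y * n⁻¹ ∈ Z := fun y hy => hZconj y hy n (hnS y (hZS hy))
  -- an odd power of `n` centralises `Z`
  obtain ⟨e, m, hm2, hnm⟩ := Nat.exists_eq_pow_mul_and_not_dvd (orderOf_pos n).ne' 2 (by norm_num)
  have hmodd : Odd m := by rwa [Nat.odd_iff, ← Nat.two_dvd_ne_zero]
  have hnmS : n ^ m ∈ (S : Subgroup G) := by
    have hp : IsPGroup 2 ↥(zpowers (n ^ m)) := IsPGroup.of_card (n := e) (by
      rw [Nat.card_zpowers, orderOf_pow, hnm, Nat.gcd_mul_left_left,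
        Nat.mul_div_cancel _ (Nat.pos_of_ne_zero fun h => by simp [h] at hmodd)])
    have h := S.3 (hp.to_sup_of_normal_right' S.2 (zpowers_le.2 (pow_mem hn m))) le_sup_right
    exact (le_sup_left.trans h.le) (mem_zpowers _)
  have hmfix : ∀ y ∈ Z, n ^ m * y * (n ^ m)⁻¹ = y := fun y hy => by
    rw [← hcen y hy _ hnmS, mul_inv_cancel_right]
  have hcyc : ∀ y ∈ Z, y ≠ 1 → n * y * n⁻¹ ≠ y ∧
      n * (n * y * n⁻¹) * n⁻¹ = y * (n * y * n⁻¹) := by
    have hnofix : ∀ y ∈ Z, y ≠ 1 → n * y * n⁻¹ ≠ y := by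
      intro y hy hy1 hfy
      refine hgx (hne ▸ ?_)
      -- the square of `n` fixes every element of `Z`
      have hsq : ∀ z ∈ Z, n * (n * z * n⁻¹) * n⁻¹ = z := by
        intro z hz
        by_cases hz1 : z = 1
        · simp [hz1]
        by_cases hzy : z = y
        · rw [hzy, hfy, hfy]
        rcases four_cases h4 hy hz hy1 hz1 (Ne.symm hzy) (hel y hy) (hnZ z hz) with h | h | h | h
        · exact absurd (conj_eq_one_iff.1 h) hz1
        · exact absurd (mul_left_cancel (mul_right_cancel (h.trans hfy.symm))) hzy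
        · rw [h, h]
        · rw [h, show n * (y * z) * n⁻¹ = n * y * n⁻¹ * (n * z * n⁻¹) by group, hfy, h,
            ← mul_assoc, hel y hy, one_mul]
      obtain ⟨k, rfl⟩ := hmodd
      have hev : ∀ k, ∀ z ∈ Z, n ^ (2 * k) * z * (n ^ (2 * k))⁻¹ = z := by
        intro k
        induction k with
        | zero => simp
        | succ k ih =>
          intro z hz
          rw [show 2 * (k + 1) = 2 * k + (1 + 1) by ring, pow_add, pow_succ, pow_one,
            show n ^ (2 * k) * (n * n) * z * (n ^ (2 * k) * (n * n))⁻¹ =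
              n ^ (2 * k) * (n * (n * z * n⁻¹) * n⁻¹) * (n ^ (2 * k))⁻¹ by group,
            hsq z hz, ih z hz]
      have h := hev k (n * x * n⁻¹) (hnZ x hx)
      rw [show n ^ (2 * k) * (n * x * n⁻¹) * (n ^ (2 * k))⁻¹ =
        n ^ (2 * k + 1) * x * (n ^ (2 * k + 1))⁻¹ by rw [pow_succ]; group, hmfix x hx] at h
      exact h.symm
    intro y hy hy1
    refine ⟨hnofix y hy hy1, ?_⟩
    have hy' := hnZ y hy
    have hy'1 : n * y * n⁻¹ ≠ 1 := fun h => hy1 (conj_eq_one_iff.1 h)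
    rcases four_cases h4 hy hy' hy1 hy'1 (Ne.symm (hnofix y hy hy1)) (hel y hy) (hnZ _ hy')
      with h | h | h | h
    · exact absurd (conj_eq_one_iff.1 h) hy'1
    · refine absurd ?_ (hnofix (y * (n * y * n⁻¹)) (mul_mem hy hy') fun h' =>
        hnofix y hy hy1 (mul_left_cancel (h'.trans (hel y hy).symm)))
      rw [show n * (y * (n * y * n⁻¹)) * n⁻¹ = n * y * n⁻¹ * (n * (n * y * n⁻¹) * n⁻¹) by group, h,
        hcen y hy _ (hZS hy')]
    · exact absurd h (hnofix _ hy' hy'1)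
    · exact h
  obtain ⟨W, hWn, hWs, hWna, hZW, hWc⟩ := simple_minimal hO hO' S Z h4 hel hcen hinv hnZ hcyc
  haveI := hWn
  obtain ⟨T, hT⟩ := Transfer.Fusion.exists_sylow_map_eq_inf W S
  have hTmem : ∀ t : ↥W, t ∈ (T : Subgroup ↥W) ↔ (t : G) ∈ (S : Subgroup G) := by
    intro t
    constructor
    · intro ht
      have : (t : G) ∈ W ⊓ (S : Subgroup G) := hT ▸ ⟨t, ht, rfl⟩
      exact this.2
    · intro ht
      obtain ⟨t', ht', htt⟩ := (hT ▸ ⟨t.2, ht⟩ :
        (t : G) ∈ (T : Subgroup ↥W).map W.subtype)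
      rwa [← Subtype.ext htt]
  set A : Subgroup ↥W := Z.subgroupOf W with hA
  have hAom : A = Om T := by
    refine le_antisymm (fun a ha => PGroups.mem_omegaOne_of_pow ((hTmem a).2 (hZS ha))
      (by rw [sq]; exact Subtype.ext (hel _ ha))) ((Subgroup.closure_le _).2 fun a ha => ?_)
    refine hinv _ ((hTmem a).1 ha.1) ?_
    have h := congrArg Subtype.val ha.2
    rwa [sq] at h
  have hAel : Cfsg.IsElementaryAbelian 2 A := by
    refine ⟨⟨⟨fun a b => Subtype.ext (Subtype.ext (hcen _ a.2 _ (hZS b.2)))⟩⟩, fun a ha => ?_⟩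
    rw [sq]
    exact Subtype.ext (hel _ ha)
  have hAne : A ≠ ⊥ := fun h => by
    have := congrArg (fun H : Subgroup ↥W => Nat.card ↥H) h
    rw [Subgroup.card_bot, hA, Nat.card_congr (Subgroup.subgroupOfEquivOfLe hZW).toEquiv, h4]
      at this
    omega
  have hAsc : Cfsg.IsStronglyClosed A (T : Subgroup ↥W) :=
    ⟨fun a ha => (hTmem a).2 (hZS ha), fun a ha k hk =>
      hZconj _ ha (k : G) ((hTmem _).1 hk)⟩
  obtain ⟨hK, -⟩ := hP _ ↥W (Nat.lt_succ_self _) hWs hWna T A hAne hAel hAsc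
  have hF' := Goldschmidt53.facts _ hK
  -- `S` lies in `W`
  have hSW : (S : Subgroup G) ≤ W := by
    intro s hs
    set α : MulAut ↥W := MulAut.conjNormal s with hα
    have hαv : ∀ w : ↥W, ((α w : ↥W) : G) = s * w * s⁻¹ := fun w => MulAut.conjNormal_apply s w
    have hord : ∃ j, orderOf α = 2 ^ j := by
      obtain ⟨k, hk⟩ := IsPGroup.iff_orderOf.1 S.2 ⟨s, hs⟩
      rw [Subgroup.orderOf_mk] at hk
      obtain ⟨j, -, hj⟩ := (Nat.dvd_prime_pow Nat.prime_two).1
        (hk ▸ orderOf_map_dvd (MulAut.conjNormal : G →* MulAut ↥W) s)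
      exact ⟨j, hj⟩
    obtain ⟨t, -, ht'⟩ := hF'.split T α hord (fun a ha => Subtype.ext (by
        rw [← hAom] at ha
        have hz : (a : G) ∈ Z := ha
        rw [hαv, ← hcen _ hz s hs, mul_inv_cancel_right])) (fun a ha => by
        rw [← hAom]
        show ((a : G))⁻¹ * (α a : G) ∈ Z
        rw [hαv]
        have haS := (hTmem a).1 ha
        refine (hZmem (⟨a, haS⟩⁻¹ * (⟨s, hs⟩ * ⟨a, haS⟩ * ⟨s, hs⟩⁻¹))).2 ?_
        have h1 := c.a_mul (⟨s, hs⟩ : ↥(S : Subgroup G)) ⟨s, hs⟩⁻¹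
        have h2 := c.a_mul (⟨a, haS⟩ : ↥(S : Subgroup G))⁻¹ ⟨a, haS⟩
        rw [mul_inv_cancel, c.a_one] at h1
        rw [inv_mul_cancel, c.a_one] at h2
        rw [c.a_mul, c.a_mul, c.a_mul]
        linear_combination -h1 - h2)
    have hc : (t : G)⁻¹ * s ∈ Subgroup.centralizer (W : Set G) := by
      refine mem_centralizer_iff.2 fun w hw => ?_
      have h := congrArg Subtype.val (ht' ⟨w, hw⟩)
      rw [hαv] at h
      change s * w * s⁻¹ = (t : G) * w * (t : G)⁻¹ at h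
      rw [mul_inv_eq_iff_eq_mul] at h
      rw [mul_assoc, h]
      group
    rw [hWc, mem_bot, inv_mul_eq_one] at hc
    rw [← hc]
    exact t.2
  have hWtop : W = ⊤ := hO' W hWn (by
    rw [Nat.odd_iff, ← Nat.two_dvd_ne_zero]
    exact fun h => S.not_dvd_index (h.trans (Subgroup.index_dvd_of_le hSW)))
  subst hWtop
  haveI : IsSimpleGroup G :=
    haveI := hWs
    MulEquiv.isSimpleGroup (Subgroup.topEquiv (G := G)).symm
  exact Or.inl (row0486 hP hF S P ⟨φ⟩)

end Cfsg.Agent.Lib.U34Recog67
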